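import Mathlib.Analysis.InnerProductSpace.PiL2
import Mathlib.Analysis.Normed.Operator.Basic
import Mathlib.Analysis.SpecialFunctions.Complex.Arg
import Mathlib.Analysis.SpecialFunctions.Trigonometric.Basic
import Mathlib.LinearAlgebra.Eigenspace.Triangularizable
import Mathlib.Analysis.Complex.Polynomial.Basic
import Mathlib.GroupTheory.Index

/-!
Frobenius' argument: in a finite group of isometries two elements close to the scalar
`√3/2` commute; and the arc pigeonhole for abelian groups of isometries.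
-/

namespace CfsgLib.LinGrp

universe u v

open scoped InnerProductSpace ComplexConjugate

section Frobenius

variable {G : Type u} [Group G] {V : Type v} [NormedAddCommGroup V] [InnerProductSpace ℂ V]
  (A : G →* (V →L[ℂ] V))

/-- The isometry hypothesis. -/
def IsIso' : Prop := ∀ (g : G) (v : V), ‖A g v‖ = ‖v‖

variable {A}

theorem apply_mul (g h : G) (v : V) : A (g * h) v = A g (A h v) := by
  rw [map_mul]; rfl

theorem apply_one (v : V) : A 1 v = v := by rw [map_one]; rfl

theorem apply_inv_apply (g : G) (v : V) : A g⁻¹ (A g v) = v := by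
  rw [← apply_mul, inv_mul_cancel, apply_one]

theorem inner_map (hA : IsIso' A) (g : G) (v w : V) : ⟪A g v, A g w⟫_ℂ = ⟪v, w⟫_ℂ := by
  rw [inner_eq_sum_norm_sq_div_four, inner_eq_sum_norm_sq_div_four (𝕜 := ℂ) (x := v)]
  simp only [← map_add, ← map_sub, ← map_smul, hA g]

theorem norm_eq_one_of_eigen (hA : IsIso' A) (g : G) {v : V} (hv : v ≠ 0) {b : ℂ}
    (h : A g v = b • v) : ‖b‖ = 1 := by
  have h1 := hA g v
  rw [h, norm_smul] at h1
  exact mul_right_cancel₀ (norm_ne_zero_iff.mpr hv) (by simpa using h1)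

theorem inner_eq_zero_of_eigen (hA : IsIso' A) (g : G) {v w : V} {a b : ℂ}
    (hv : A g v = a • v) (hw : A g w = b • w) (hv0 : v ≠ 0) (hab : a ≠ b) : ⟪v, w⟫_ℂ = 0 := by
  have h := inner_map hA g v w
  rw [hv, hw, inner_smul_left, inner_smul_right] at h
  have ha : conj a * a = 1 := by
    rw [← Complex.normSq_eq_conj_mul_self, Complex.normSq_eq_norm_sq,
      norm_eq_one_of_eigen hA g hv0 hv]
    simp
  have h2 : (conj a * b - 1) * ⟪v, w⟫_ℂ = 0 := by rw [sub_mul, one_mul, mul_assoc, h, sub_self]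
  rcases mul_eq_zero.mp h2 with h3 | h3
  · exfalso
    apply hab
    calc a = a * (conj a * b) := by rw [sub_eq_zero.mp h3, mul_one]
      _ = b := by rw [← mul_assoc, mul_comm a, ha, one_mul]
  · exact h3

theorem norm_comp_sub_mul (hA : IsIso' A) (g : G) (x : V) (T : V →L[ℂ] V) :
    ‖A g (T x)‖ = ‖T x‖ := hA g _

/-- `‖[x,y] - 1‖ ≤ 2‖y - c‖‖x - 1‖`. -/
theorem norm_commutator_sub_one (hA : IsIso' A) (x y : G) (c : ℂ) :
    ‖A (x * y * x⁻¹ * y⁻¹) - 1‖ ≤ 2 * ‖A y - c • (1 : V →L[ℂ] V)‖ * ‖A x - 1‖ := by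
  refine ContinuousLinearMap.opNorm_le_bound _ (by positivity) fun v => ?_
  set X := A x - 1 with hX
  set Y := A y - c • (1 : V →L[ℂ] V) with hY
  set w := A (x⁻¹ * y⁻¹) v with hw
  have hwn : ‖w‖ = ‖v‖ := hA _ _
  have e1 : (A (x * y * x⁻¹ * y⁻¹) - 1) v = A (x * y) w - A (y * x) w := by
    rw [hw, ← apply_mul, ← apply_mul]
    simp [mul_assoc]
  have e2 : A (x * y) w - A (y * x) w = X (Y w) - Y (X w) := by
    simp only [hX, hY, apply_mul, sub_apply, one_apply_eq_self,
      smul_apply, map_sub, map_smul, smul_sub]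
    abel
  rw [e1, e2]
  calc ‖X (Y w) - Y (X w)‖ ≤ ‖X (Y w)‖ + ‖Y (X w)‖ := norm_sub_le _ _
    _ ≤ ‖X‖ * (‖Y‖ * ‖w‖) + ‖Y‖ * (‖X‖ * ‖w‖) :=
        add_le_add ((X.le_opNorm _).trans (by gcongr; exact Y.le_opNorm _))
          ((Y.le_opNorm _).trans (by gcongr; exact X.le_opNorm _))
    _ = 2 * ‖Y‖ * ‖X‖ * ‖v‖ := by rw [hwn]; ring

variable [FiniteDimensional ℂ V]

/-- Finite order operator different from one has an eigenvalue different from one with an
eigenvector that is also an eigenvector of a commuting operator. -/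
theorem exists_common_eigen [Finite G] {z y : G} (hzy : Commute z y) (hz : A z ≠ 1) :
    ∃ (v : V) (μ b : ℂ), v ≠ 0 ∧ μ ≠ 1 ∧ A z v = μ • v ∧ A y v = b • v := by
  let R : Submodule ℂ V := LinearMap.range ((A z - 1 : V →L[ℂ] V).toLinearMap)
  have hR : R ≠ ⊥ := by
    intro h
    apply hz
    rw [← sub_eq_zero]
    ext u
    have : (A z - 1) u ∈ R := LinearMap.mem_range_self _ _
    rw [h, Submodule.mem_bot] at this
    simpa using this
  have : Nontrivial R := Submodule.nontrivial_iff_ne_bot.mpr hR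
  have hzinv : ∀ u ∈ R, (A z).toLinearMap u ∈ R := by
    rintro _ ⟨w, rfl⟩
    exact ⟨A z w, by simp⟩
  obtain ⟨μ, hμ⟩ := Module.End.exists_eigenvalue ((A z).toLinearMap.restrict hzinv)
  obtain ⟨⟨w, hwR⟩, hw⟩ := hμ.exists_hasEigenvector
  have hw0 : w ≠ 0 := fun h => hw.2 (Subtype.ext h)
  have hwμ : A z w = μ • w := congrArg Subtype.val hw.apply_eq_smul
  have hμ1 : μ ≠ 1 := by
    rintro rfl
    rw [one_smul] at hwμ
    obtain ⟨u, hu⟩ := hwR
    have hu' : A z u = u + w := by
      rw [← hu]; simp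
    have hpow : ∀ j : ℕ, A (z ^ j) u = u + j • w := by
      intro j
      induction j with
      | zero => simp
      | succ j ih => rw [pow_succ', apply_mul, ih, map_add, map_nsmul, hu', hwμ, succ_nsmul]; abel
    have h := hpow (orderOf z)
    rw [pow_orderOf_eq_one, apply_one] at h
    have h' : (orderOf z) • w = 0 := by simpa using h
    rw [← Nat.cast_smul_eq_nsmul ℂ, smul_eq_zero] at h'
    rcases h' with h' | h'
    · exact (orderOf_pos z).ne' (by exact_mod_cast h')
    · exact hw0 h'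
  let E : Submodule ℂ V := Module.End.eigenspace (A z).toLinearMap μ
  have : Nontrivial E := Submodule.nontrivial_iff_ne_bot.mpr (by
    intro h
    have hm : w ∈ E := Module.End.mem_eigenspace_iff.mpr hwμ
    rw [h, Submodule.mem_bot] at hm
    exact hw0 hm)
  have hyinv : ∀ u ∈ E, (A y).toLinearMap u ∈ E := by
    intro u hu
    rw [Module.End.mem_eigenspace_iff] at hu ⊢
    change A z (A y u) = μ • A y u
    change A z u = μ • u at hu
    rw [← apply_mul, hzy.eq, apply_mul, hu, map_smul]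
  obtain ⟨b, hb⟩ := Module.End.exists_eigenvalue ((A y).toLinearMap.restrict hyinv)
  obtain ⟨⟨v, hvE⟩, hv⟩ := hb.exists_hasEigenvector
  exact ⟨v, μ, b, fun h => hv.2 (Subtype.ext h), hμ1, Module.End.mem_eigenspace_iff.mp hvE,
    congrArg Subtype.val hv.apply_eq_smul⟩

/-- If `[x,y]` commutes with `y` and `x` is near one, then the commutator is trivial. -/
theorem commutator_eq_one_of_commute [Finite G] (hA : IsIso' A) (hinj : Function.Injective A)
    {x y : G} (hx : ‖A x - 1‖ < 1) (hc : Commute (x * y * x⁻¹ * y⁻¹) y) :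
    x * y * x⁻¹ * y⁻¹ = 1 := by
  set z := x * y * x⁻¹ * y⁻¹ with hzdef
  by_contra hz
  have hz' : A z ≠ 1 := fun h => hz (hinj (by rw [h, map_one]))
  obtain ⟨v, μ, b, hv, hμ, hzv, hyv⟩ := exists_common_eigen (A := A) hc hz'
  have hb : b ≠ 0 := by
    intro h
    have := norm_eq_one_of_eigen hA y hv hyv
    simp [h] at this
  have h1 : A (x * y * x⁻¹) v = (μ * b) • v := by
    rw [show x * y * x⁻¹ = z * y by rw [hzdef]; group, apply_mul, hyv, map_smul, hzv, smul_smul,
      mul_comm b]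
  have h2 : A (x * y * x⁻¹) (A x v) = b • A x v := by
    rw [← apply_mul, show x * y * x⁻¹ * x = x * y by group, apply_mul, hyv, map_smul]
  have hne : μ * b ≠ b := fun h => hμ ((mul_eq_right₀ hb).mp h)
  have h0 : ⟪v, A x v⟫_ℂ = 0 := inner_eq_zero_of_eigen hA _ h1 h2 hv hne
  have h3 : ‖A x v - v‖ ^ 2 = ‖v‖ ^ 2 + ‖v‖ ^ 2 := by
    rw [@norm_sub_sq ℂ, hA, ← inner_conj_symm (A x v) v, h0]
    simp
  have h4 : ‖A x v - v‖ ≤ ‖A x - 1‖ * ‖v‖ := by
    simpa using (A x - 1).le_opNorm v
  have h5 : 0 < ‖v‖ := norm_pos_iff.mpr hv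
  have h6 : ‖A x v - v‖ < ‖v‖ := lt_of_le_of_lt h4 (mul_lt_of_lt_one_left h5 hx)
  have h7 : ‖A x v - v‖ ^ 2 < ‖v‖ ^ 2 := pow_lt_pow_left₀ h6 (norm_nonneg _) two_ne_zero
  linarith [sq_nonneg ‖v‖]

/-- Frobenius: `‖x - 1‖ < 1` and `‖y - c‖ < 1/2` imply that `x` and `y` commute. -/
theorem commute_of_near [Finite G] (hA : IsIso' A) (hinj : Function.Injective A) (c : ℂ)
    {x y : G} (hx : ‖A x - 1‖ < 1) (hy : ‖A y - c • (1 : V →L[ℂ] V)‖ < 1 / 2) : Commute x y := by
  have := Fintype.ofFinite G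
  set s := 2 * ‖A y - c • (1 : V →L[ℂ] V)‖ with hs
  have hs0 : 0 ≤ s := by positivity
  have hs1 : s < 1 := by linarith
  let f : G → G := fun a => a * y * a⁻¹ * y⁻¹
  have hstep : ∀ k : ℕ, ‖A (f^[k] x) - 1‖ ≤ s ^ k * ‖A x - 1‖ := by
    intro k
    induction k with
    | zero => simp
    | succ k ih =>
      rw [Function.iterate_succ_apply']
      refine (norm_commutator_sub_one hA _ y c).trans ?_
      rw [← hs, pow_succ']
      calc s * ‖A (f^[k] x) - 1‖ ≤ s * (s ^ k * ‖A x - 1‖) := by gcongr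
        _ = _ := by ring
  have hev : ∃ k, f^[k] x = 1 := by
    by_contra! hne
    have hpos : ∀ g : G, g ≠ 1 → 0 < ‖A g - 1‖ := fun g hg => by
      refine norm_pos_iff.mpr (sub_ne_zero.mpr fun h => hg (hinj (by rw [h, map_one])))
    obtain ⟨k₀, hk₀⟩ : ∃ g : {g : G // g ≠ 1}, ∀ a : {g : G // g ≠ 1}, ‖A g.1 - 1‖ ≤ ‖A a.1 - 1‖ := by
      have : Nonempty {g : G // g ≠ 1} := ⟨⟨x, by simpa using hne 0⟩⟩
      exact Finite.exists_min fun g : {g : G // g ≠ 1} => ‖A g.1 - 1‖
    obtain ⟨k, hk⟩ := exists_pow_lt_of_lt_one (hpos _ k₀.2) hs1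
    have h1 := (hk₀ ⟨_, hne k⟩).trans (hstep k)
    have h2 : s ^ k * ‖A x - 1‖ ≤ s ^ k * 1 := by gcongr
    linarith
  have hcomm : ∀ k, Commute (f^[k] x) y := by
    obtain ⟨k, hk⟩ := hev
    -- descend from the first trivial iterate
    have key : ∀ j, j ≤ k → Commute (f^[k - j] x) y := by
      intro j
      induction j with
      | zero => intro _; simp [hk]
      | succ j ih =>
        intro hj
        have h1 := ih (by omega)
        rw [show k - j = (k - (j + 1)) + 1 by omega, Function.iterate_succ_apply'] at h1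
        have hlt : ‖A (f^[k - (j + 1)] x) - 1‖ < 1 := by
          refine lt_of_le_of_lt (hstep _) ?_
          exact lt_of_le_of_lt (mul_le_of_le_one_left (norm_nonneg _) (pow_le_one₀ hs0 hs1.le)) hx
        have h2 := commutator_eq_one_of_commute hA hinj hlt h1
        exact commutatorElement_eq_one_iff_commute.mp (by rw [commutatorElement_def]; exact h2)
    intro j
    rcases Nat.le_total j k with h | h
    · simpa [Nat.sub_sub_self h] using key (k - j) (Nat.sub_le _ _)
    · induction j, h using Nat.le_induction with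
      | base => simp [hk]
      | succ j _ ih =>
        rw [Function.iterate_succ_apply']
        have : f (f^[j] x) = 1 := commutatorElement_eq_one_iff_commute.mpr ih
        rw [this]; exact Commute.one_left y
  simpa using hcomm 0

end Frobenius

section Arcs

/-- √3/2, as a complex number. -/
noncomputable def arcCentre : ℂ := ((Real.cos (Real.pi / 6) : ℝ) : ℂ)

/-- Which of the twelve arcs of length π/6 contains `z`. -/
noncomputable def arcIdx (z : ℂ) : ZMod 12 :=
  ((⌈(Complex.arg z + Real.pi) / (Real.pi / 6)⌉ : ℤ) : ZMod 12)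

theorem norm_sub_arcCentre_lt {z w : ℂ} (hz : ‖z‖ = 1) (hw : ‖w‖ = 1) (h : arcIdx z = arcIdx w) :
    ‖conj z * w - arcCentre‖ < 1 / 2 := by
  have hπ := Real.pi_pos
  set a := (Complex.arg z + Real.pi) / (Real.pi / 6) with ha
  set b := (Complex.arg w + Real.pi) / (Real.pi / 6) with hb
  have ha0 : 0 < a := by
    have := Complex.neg_pi_lt_arg z
    rw [ha]; exact div_pos (by linarith) (by positivity)
  have hb0 : 0 < b := by
    have := Complex.neg_pi_lt_arg w
    rw [hb]; exact div_pos (by linarith) (by positivity)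
  have ha12 : a ≤ 12 := by
    rw [ha, div_le_iff₀ (by positivity)]
    have := Complex.arg_le_pi z
    linarith
  have hb12 : b ≤ 12 := by
    rw [hb, div_le_iff₀ (by positivity)]
    have := Complex.arg_le_pi w
    linarith
  have e : ⌈a⌉ = ⌈b⌉ := by
    have h1 : (12 : ℤ) ∣ ⌈b⌉ - ⌈a⌉ := by
      have := (ZMod.intCast_eq_intCast_iff_dvd_sub ⌈a⌉ ⌈b⌉ 12).mp h
      simpa using this
    have := Int.ceil_pos.mpr ha0
    have := Int.ceil_pos.mpr hb0
    have : ⌈a⌉ ≤ 12 := Int.ceil_le.mpr (by exact_mod_cast ha12)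
    have : ⌈b⌉ ≤ 12 := Int.ceil_le.mpr (by exact_mod_cast hb12)
    omega
  have hlt : |a - b| < 1 := by
    have h1 := Int.le_ceil a
    have h2 := Int.ceil_lt_add_one a
    have h3 := Int.le_ceil b
    have h4 := Int.ceil_lt_add_one b
    rw [e] at h1 h2
    rw [abs_lt]
    constructor <;> linarith
  set d := Complex.arg w - Complex.arg z with hd
  have hdlt : |d| < Real.pi / 6 := by
    have : d = (b - a) * (Real.pi / 6) := by rw [ha, hb, hd]; field_simp; ring
    rw [this, abs_mul, abs_of_pos (by positivity : (0:ℝ) < Real.pi / 6), abs_sub_comm]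
    exact mul_lt_of_lt_one_left (by positivity) hlt
  have hcos : Real.cos (Real.pi / 6) < Real.cos d := by
    rw [← Real.cos_abs d]
    exact Real.cos_lt_cos_of_nonneg_of_le_pi (abs_nonneg _) (by linarith) hdlt
  set u := conj z * w with hu
  have hun : ‖u‖ = 1 := by rw [hu, norm_mul, Complex.norm_conj, hz, hw, one_mul]
  have hre : u.re = Real.cos d := by
    have hz0 : z ≠ 0 := by intro h; simp [h] at hz
    have hw0 : w ≠ 0 := by intro h; simp [h] at hw
    rw [hu, hd, Real.cos_sub, Complex.cos_arg hz0, Complex.cos_arg hw0, Complex.sin_arg,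
      Complex.sin_arg, hz, hw]
    simp [Complex.mul_re]; ring
  have hc : Real.cos (Real.pi / 6) = Real.sqrt 3 / 2 := Real.cos_pi_div_six
  have hsq : ‖u - arcCentre‖ ^ 2 < (1 / 2) ^ 2 := by
    have hu2 : u.re ^ 2 + u.im ^ 2 = 1 := by
      have := Complex.sq_norm u
      rw [hun, Complex.normSq_apply] at this
      nlinarith
    rw [Complex.sq_norm, Complex.normSq_apply]
    simp only [arcCentre, Complex.sub_re, Complex.sub_im, Complex.ofReal_re, Complex.ofReal_im, sub_zero]
    rw [hc] at hcos ⊢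
    rw [← hre] at hcos
    have h5 := Real.sq_sqrt (show (0:ℝ) ≤ 3 by norm_num)
    have h6 := mul_pos (Real.sqrt_pos.mpr (show (0:ℝ) < 3 by norm_num)) (sub_pos.mpr hcos)
    nlinarith
  exact lt_of_pow_lt_pow_left₀ 2 (by norm_num) hsq

theorem norm_arcCentre_sub_one : ‖arcCentre - 1‖ < 1 / 2 := by
  have := norm_sub_arcCentre_lt (z := 1) (w := 1) (by simp) (by simp) rfl
  rw [norm_sub_rev]
  simpa using this

variable {H : Type u} [Group H] {V : Type v} [NormedAddCommGroup V] [InnerProductSpace ℂ V]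
  [FiniteDimensional ℂ V] {A : H →* (V →L[ℂ] V)}

/-- A common eigenvector in a nonzero invariant subspace. -/
theorem exists_joint_eigen (hcomm : ∀ a b : H, Commute a b) (W : Submodule ℂ V)
    (hW : W ≠ ⊥) (hinv : ∀ h : H, ∀ w ∈ W, A h w ∈ W) :
    ∃ v ∈ W, v ≠ 0 ∧ ∀ h : H, ∃ μ : ℂ, A h v = μ • v := by
  induction hd : Module.finrank ℂ W using Nat.strong_induction_on generalizing W with
  | _ d ih =>
  by_cases hall : ∀ h : H, ∃ μ : ℂ, ∀ w ∈ W, A h w = μ • w
  · obtain ⟨v, hv, hv0⟩ := Submodule.exists_mem_ne_zero_of_ne_bot hW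
    exact ⟨v, hv, hv0, fun h => ⟨_, (hall h).choose_spec v hv⟩⟩
  · push Not at hall
    obtain ⟨g, hg⟩ := hall
    have : Nontrivial W := Submodule.nontrivial_iff_ne_bot.mpr hW
    obtain ⟨μ, hμ⟩ := Module.End.exists_eigenvalue ((A g).toLinearMap.restrict (hinv g))
    obtain ⟨⟨v, hvW⟩, hv⟩ := hμ.exists_hasEigenvector
    let W' : Submodule ℂ V := W ⊓ Module.End.eigenspace (A g).toLinearMap μ
    have hv' : v ∈ W' := ⟨hvW, Module.End.mem_eigenspace_iff.mpr (congrArg Subtype.val hv.apply_eq_smul)⟩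
    have hne : W' ≠ ⊥ := by
      intro h; rw [h, Submodule.mem_bot] at hv'; exact hv.2 (Subtype.ext hv')
    have hlt : W' < W := by
      refine lt_of_le_of_ne inf_le_left fun h => ?_
      obtain ⟨w, hw, hw'⟩ := hg μ
      have : w ∈ W' := h ▸ hw
      exact hw' (Module.End.mem_eigenspace_iff.mp this.2)
    have hinv' : ∀ h : H, ∀ w ∈ W', A h w ∈ W' := by
      intro h w hw
      refine ⟨hinv h w hw.1, Module.End.mem_eigenspace_iff.mpr ?_⟩
      have := Module.End.mem_eigenspace_iff.mp hw.2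
      change A g (A h w) = μ • A h w
      change A g w = μ • w at this
      rw [← apply_mul, (hcomm g h).eq, apply_mul, this, map_smul]
    obtain ⟨u, hu, hu'⟩ := ih _ (hd ▸ Submodule.finrank_lt_finrank_of_lt hlt) W' hne hinv' rfl
    exact ⟨u, hu.1, hu'⟩

/-- An abelian group of isometries is governed by at most `dim` unit-circle valued characters. -/
theorem exists_eigen_chars (hA : IsIso' A) (hcomm : ∀ a b : H, Commute a b) (W : Submodule ℂ V)
    (hinv : ∀ h : H, ∀ w ∈ W, A h w ∈ W) :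
    ∃ L : Fin (Module.finrank ℂ W) → H → ℂ, (∀ i h, ‖L i h‖ = 1) ∧
      (∀ i a b, L i (a * b) = L i a * L i b) ∧
      ∀ (h : H) (c : ℂ) (r : ℝ), 0 ≤ r → (∀ i, ‖L i h - c‖ ≤ r) →
        ∀ w ∈ W, ‖A h w - c • w‖ ≤ r * ‖w‖ := by
  induction hd : Module.finrank ℂ W using Nat.strong_induction_on generalizing W with
  | _ d ih =>
  by_cases hW : W = ⊥
  · refine ⟨fun _ _ => 1, fun _ _ => by simp, fun _ _ _ => by simp, fun h c r _ _ w hw => ?_⟩
    rw [hW, Submodule.mem_bot] at hw
    simp [hw]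
  obtain ⟨v, hvW, hv0, hv⟩ := exists_joint_eigen (A := A) hcomm W hW hinv
  choose l hl using hv
  have hl1 : ∀ h, ‖l h‖ = 1 := fun h => norm_eq_one_of_eigen hA h hv0 (hl h)
  have hlmul : ∀ a b, l (a * b) = l a * l b := by
    intro a b
    have h1 := hl (a * b)
    rw [apply_mul, hl b, map_smul, hl a, smul_smul] at h1
    exact (smul_left_injective ℂ hv0 h1).symm.trans (mul_comm _ _)
  let L0 : Submodule ℂ V := ℂ ∙ v
  let W' : Submodule ℂ V := L0ᗮ ⊓ W
  have hL0 : L0 ≤ W := (Submodule.span_singleton_le_iff_mem _ _).mpr hvW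
  have hinv' : ∀ h : H, ∀ w ∈ W', A h w ∈ W' := by
    intro h w hw
    refine ⟨Submodule.mem_orthogonal_singleton_iff_inner_right.mpr ?_, hinv h w hw.2⟩
    have hw1 := Submodule.mem_orthogonal_singleton_iff_inner_right.mp hw.1
    have := inner_map hA h v w
    rw [hl h, inner_smul_left, hw1] at this
    rcases mul_eq_zero.mp this with h2 | h2
    · have h3 := hl1 h
      simp [show l h = 0 by simpa using h2] at h3
    · exact h2
  have hdim : Module.finrank ℂ W' + 1 = d := by
    have := Submodule.finrank_add_inf_finrank_orthogonal hL0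
    rw [finrank_span_singleton hv0, hd] at this
    change 1 + Module.finrank ℂ W' = d at this
    omega
  obtain ⟨L, hLn, hLm, hLb⟩ := ih _ (by omega) W' hinv' rfl
  refine ⟨fun i => (Fin.cons l L : Fin (Module.finrank ℂ W' + 1) → H → ℂ) (i.cast hdim.symm),
    fun i h => ?_, fun i a b => ?_, fun h c r hr hi w hw => ?_⟩
  · dsimp only
    generalize i.cast hdim.symm = k
    cases k using Fin.cases with
    | zero => simpa using hl1 h
    | succ j => simpa using hLn j h
  · dsimp only
    generalize i.cast hdim.symm = k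
    cases k using Fin.cases with
    | zero => simpa using hlmul a b
    | succ j => simpa using hLm j a b
  · have hl' : ‖l h - c‖ ≤ r := by simpa using hi ((0 : Fin (Module.finrank ℂ W' + 1)).cast hdim)
    have hL' : ∀ j, ‖L j h - c‖ ≤ r := fun j => by
      simpa using hi (j.succ.cast hdim)
    obtain ⟨p, hp, q, hq, rfl⟩ := L0.exists_add_mem_mem_orthogonal w
    obtain ⟨a, rfl⟩ := Submodule.mem_span_singleton.mp hp
    have hqW : q ∈ W' := ⟨hq, by simpa using W.sub_mem hw (W.smul_mem a hvW)⟩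
    have h1 : A h (a • v + q) - c • (a • v + q) = ((l h - c) * a) • v + (A h q - c • q) := by
      rw [map_add, map_smul, hl h, smul_add, smul_smul, smul_smul, sub_mul, sub_smul, mul_comm a]
      abel
    have hoq : ⟪v, A h q - c • q⟫_ℂ = 0 := by
      rw [inner_sub_right, inner_smul_right,
        Submodule.mem_orthogonal_singleton_iff_inner_right.mp (hinv' h q hqW).1,
        Submodule.mem_orthogonal_singleton_iff_inner_right.mp hq]
      simp
    have hvq : ⟪v, q⟫_ℂ = 0 := Submodule.mem_orthogonal_singleton_iff_inner_right.mp hq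
    have e1 : ‖A h (a • v + q) - c • (a • v + q)‖ * ‖A h (a • v + q) - c • (a • v + q)‖ =
        (‖l h - c‖ * ‖a • v‖) * (‖l h - c‖ * ‖a • v‖) + ‖A h q - c • q‖ * ‖A h q - c • q‖ := by
      rw [h1, norm_add_sq_eq_norm_sq_add_norm_sq_of_inner_eq_zero (𝕜 := ℂ) _ _
        (by rw [inner_smul_left, hoq, mul_zero])]
      simp only [norm_smul, norm_mul]
      ring
    have e2 : ‖a • v + q‖ * ‖a • v + q‖ = ‖a • v‖ * ‖a • v‖ + ‖q‖ * ‖q‖ :=
      norm_add_sq_eq_norm_sq_add_norm_sq_of_inner_eq_zero (𝕜 := ℂ) _ _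
        (by rw [inner_smul_left, hvq, mul_zero])
    have e3 := hLb h c r hr hL' q hqW
    have e4 : ‖l h - c‖ * ‖a • v‖ ≤ r * ‖a • v‖ := by gcongr
    refine nonneg_le_nonneg_of_sq_le_sq (by positivity) ?_
    rw [e1]
    calc _ ≤ (r * ‖a • v‖) * (r * ‖a • v‖) + (r * ‖q‖) * (r * ‖q‖) := by
          gcongr
      _ = r * r * (‖a • v + q‖ * ‖a • v + q‖) := by rw [e2]; ring
      _ = _ := by ring

end Arcs

section Main

variable {G : Type u} [Group G] [Finite G] {V : Type v} [NormedAddCommGroup V]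
  [InnerProductSpace ℂ V] [FiniteDimensional ℂ V] (A : G →* (V →L[ℂ] V))

/-- The elements within distance `< 1/2` of the scalar `√3/2`. -/
def nearSet : Set G := {g | ‖A g - arcCentre • (1 : V →L[ℂ] V)‖ < 1 / 2}

variable {A}

theorem nearSet_commute (hA : IsIso' A) (hinj : Function.Injective A) {x y : G}
    (hx : x ∈ nearSet A) (hy : y ∈ nearSet A) : Commute x y := by
  refine commute_of_near hA hinj arcCentre ?_ hy
  have h1 : A x - 1 = (A x - arcCentre • (1 : V →L[ℂ] V)) + (arcCentre - 1) • (1 : V →L[ℂ] V) := by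
    rw [sub_smul, one_smul]; abel
  rw [h1]
  refine lt_of_le_of_lt (norm_add_le _ _) ?_
  have h2 : ‖(arcCentre - 1) • (1 : V →L[ℂ] V)‖ ≤ ‖arcCentre - 1‖ := by
    rw [norm_smul]
    exact mul_le_of_le_one_right (norm_nonneg _) ContinuousLinearMap.norm_id_le
  have h3 : ‖A x - arcCentre • (1 : V →L[ℂ] V)‖ < 1 / 2 := hx
  linarith [norm_arcCentre_sub_one]

theorem nearSet_conj (hA : IsIso' A) {x : G} (hx : x ∈ nearSet A) (g : G) :
    g * x * g⁻¹ ∈ nearSet A := by
  refine lt_of_le_of_lt ?_ (show ‖A x - arcCentre • (1 : V →L[ℂ] V)‖ < 1 / 2 from hx)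
  refine ContinuousLinearMap.opNorm_le_bound _ (norm_nonneg _) fun v => ?_
  have e : (A (g * x * g⁻¹) - arcCentre • (1 : V →L[ℂ] V)) v =
      A g ((A x - arcCentre • (1 : V →L[ℂ] V)) (A g⁻¹ v)) := by
    simp only [sub_apply, smul_apply, one_apply_eq_self,
      map_sub, map_smul]
    rw [← apply_mul, ← apply_mul, ← apply_mul]
    simp [mul_assoc]
  rw [e, hA]
  refine (ContinuousLinearMap.le_opNorm _ _).trans ?_
  rw [hA]

/-- The core of Jordan's theorem. -/
theorem exists_normal_abelian_bound (hA : IsIso' A) (hinj : Function.Injective A) :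
    ∃ N : Subgroup G, N.Normal ∧ (∀ x ∈ N, ∀ y ∈ N, x * y = y * x) ∧
      ∀ H : Subgroup G, (∀ x ∈ H, ∀ y ∈ H, x * y = y * x) →
        (N.subgroupOf H).index ≤ 12 ^ Module.finrank ℂ V := by
  let N : Subgroup G := Subgroup.closure (nearSet A)
  have hN : N.Normal := by
    refine ⟨fun n hn g => ?_⟩
    induction hn using Subgroup.closure_induction with
    | mem x hx => exact Subgroup.subset_closure (nearSet_conj hA hx g)
    | one => simp
    | mul x y _ _ hx hy =>
      rw [show g * (x * y) * g⁻¹ = (g * x * g⁻¹) * (g * y * g⁻¹) by group]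
      exact mul_mem hx hy
    | inv x _ hx =>
      rw [show g * x⁻¹ * g⁻¹ = (g * x * g⁻¹)⁻¹ by group]
      exact inv_mem hx
  have hab : ∀ x ∈ N, ∀ y ∈ N, x * y = y * x := by
    have h1 : N ≤ Subgroup.centralizer (nearSet A) := (Subgroup.closure_le _).mpr fun x hx =>
      Subgroup.mem_centralizer_iff.mpr fun y hy => nearSet_commute hA hinj hy hx
    have h2 : N ≤ Subgroup.centralizer (N : Set G) := (Subgroup.closure_le _).mpr fun x hx =>
      Subgroup.mem_centralizer_iff.mpr fun y hy => (Subgroup.mem_centralizer_iff.mp (h1 hy) x hx).symm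
    intro x hx y hy
    exact (Subgroup.mem_centralizer_iff.mp (h2 hy) x hx)
  refine ⟨N, hN, hab, fun H hH => ?_⟩
  have hAH : IsIso' (A.comp H.subtype) := fun h v => hA _ v
  obtain ⟨L, hLn, hLm, hLb⟩ := exists_eigen_chars (A := A.comp H.subtype) hAH
    (fun a b => Subtype.ext (hH _ a.2 _ b.2)) ⊤ (fun _ _ _ => trivial)
  let F : H → Fin (Module.finrank ℂ (⊤ : Submodule ℂ V)) → ZMod 12 := fun h i => arcIdx (L i h)
  have hF : ∀ a b : H, F a = F b → a⁻¹ * b ∈ N.subgroupOf H := by
    intro a b hab'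
    rw [Subgroup.mem_subgroupOf]
    refine Subgroup.subset_closure ?_
    have hi : ∀ i, ‖L i (a⁻¹ * b) - arcCentre‖ < 1 / 2 := fun i => by
      have e1 : L i (a⁻¹ * b) = conj (L i a) * L i b := by
        have hb' : L i b = L i a * L i (a⁻¹ * b) := by rw [← hLm, mul_inv_cancel_left]
        rw [hb', ← mul_assoc, ← Complex.normSq_eq_conj_mul_self, Complex.normSq_eq_norm_sq, hLn]
        simp
      rw [e1]
      exact norm_sub_arcCentre_lt (hLn i a) (hLn i b) (congrFun hab' i)
    let s : Finset ℝ := insert 0 (Finset.univ.image fun i => ‖L i (a⁻¹ * b) - arcCentre‖)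
    have hs : s.Nonempty := Finset.insert_nonempty _ _
    set r := s.max' hs with hr
    have hr0 : 0 ≤ r := s.le_max' 0 (Finset.mem_insert_self _ _)
    have hr1 : r < 1 / 2 := by
      rw [hr, Finset.max'_lt_iff]
      intro t ht
      rcases Finset.mem_insert.mp ht with rfl | ht
      · norm_num
      · obtain ⟨i, -, rfl⟩ := Finset.mem_image.mp ht
        exact hi i
    refine lt_of_le_of_lt (ContinuousLinearMap.opNorm_le_bound _ hr0 fun v => ?_) hr1
    have := hLb (a⁻¹ * b) arcCentre r hr0 (fun i => s.le_max' _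
      (Finset.mem_insert_of_mem (Finset.mem_image_of_mem _ (Finset.mem_univ i)))) v trivial
    simpa using this
  have hinjq : Function.Injective fun q : H ⧸ N.subgroupOf H => F q.out := by
    intro p q h
    have := QuotientGroup.eq.mpr (hF _ _ h)
    simpa using this
  rw [Subgroup.index_eq_card]
  refine (Nat.card_le_card_of_injective _ hinjq).trans ?_
  simp

end Main

end CfsgLib.LinGrp
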