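import Mathlib.Analysis.InnerProductSpace.PiL2
import Mathlib.Analysis.Normed.Operator.Basic
import Mathlib.RepresentationTheory.Basic
import Mathlib.Analysis.Normed.Module.FiniteDimension

/-!
Unitary model of a finite-dimensional complex representation of a finite group.
-/

namespace CfsgLib.LinGrp

universe u

variable {G : Type u} [Group G]

/-- The embedding v ↦ (ρ g v)_g into functions on G × Fin n with the Euclidean norm. -/
noncomputable def orbitMap {n : ℕ} (ρ : Representation ℂ G (Fin n → ℂ)) :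
    (Fin n → ℂ) →ₗ[ℂ] EuclideanSpace ℂ (G × Fin n) where
  toFun v := (WithLp.equiv 2 _).symm fun gi => ρ gi.1 v gi.2
  map_add' v w := by ext gi; simp
  map_smul' c v := by ext gi; simp

theorem orbitMap_apply {n : ℕ} (ρ : Representation ℂ G (Fin n → ℂ)) (v : Fin n → ℂ) (g : G)
    (i : Fin n) : orbitMap ρ v (g, i) = ρ g v i := rfl

theorem orbitMap_injective {n : ℕ} (ρ : Representation ℂ G (Fin n → ℂ)) :
    Function.Injective (orbitMap ρ) := by
  intro v w h
  funext i
  have := congrArg (fun f : EuclideanSpace ℂ (G × Fin n) => f (1, i)) h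
  simpa [orbitMap_apply] using this

theorem norm_orbitMap_rep [Fintype G] {n : ℕ} (ρ : Representation ℂ G (Fin n → ℂ)) (h : G)
    (v : Fin n → ℂ) : ‖orbitMap ρ (ρ h v)‖ = ‖orbitMap ρ v‖ := by
  rw [EuclideanSpace.norm_eq, EuclideanSpace.norm_eq]
  congr 1
  refine Fintype.sum_equiv ((Equiv.mulRight h).prodCongr (Equiv.refl (Fin n))) _ _ ?_
  rintro ⟨g, i⟩
  simp [orbitMap_apply, map_mul, Module.End.mul_apply]

/-- Every representation on `Fin n → ℂ` of a finite group is, as a group of operators,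
isomorphic to an isometric one on an inner product space. -/
theorem exists_unitary_model [Finite G] {n : ℕ} (ρ : Representation ℂ G (Fin n → ℂ)) :
    ∃ (m : Type u) (_ : Fintype m) (W : Submodule ℂ (EuclideanSpace ℂ m))
      (A : G →* (W →L[ℂ] W)) (e : (Fin n → ℂ) ≃ₗ[ℂ] W),
      (∀ g v, A g (e v) = e (ρ g v)) ∧ (∀ g w, ‖A g w‖ = ‖w‖) := by
  have := Fintype.ofFinite G
  let Φ := orbitMap ρ
  let W : Submodule ℂ (EuclideanSpace ℂ (G × Fin n)) := LinearMap.range Φ
  let e : (Fin n → ℂ) ≃ₗ[ℂ] W := LinearEquiv.ofInjective Φ (orbitMap_injective ρ)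
  let A : G →* (W →L[ℂ] W) :=
    { toFun := fun g => LinearMap.toContinuousLinearMap (e.conj (ρ g))
      map_one' := by ext w; simp [LinearEquiv.conj_apply]
      map_mul' := fun g h => by ext w; simp [LinearEquiv.conj_apply] }
  have hA : ∀ g v, A g (e v) = e (ρ g v) := fun g v => by simp [A, LinearEquiv.conj_apply]
  refine ⟨G × Fin n, inferInstance, W, A, e, hA, ?_⟩
  intro g w
  obtain ⟨v, rfl⟩ := e.surjective w
  rw [hA]
  rw [← Submodule.norm_coe (e (ρ g v)), ← Submodule.norm_coe (e v)]
  exact norm_orbitMap_rep ρ g v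

end CfsgLib.LinGrp
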