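import Cfsg.Prelude.Def_Blocks
import Cfsg.Agent.Lib.LinGrp.Unitary
import Cfsg.Agent.Lib.LinGrp.Arcs

/-!
Jordan's theorem in Frobenius' form: an abelian normal subgroup `A` of a finite linear group
of degree `n` meeting every abelian subgroup in index at most `12 ^ n`.
-/

namespace CfsgLib.LinGrp

universe u

theorem char_one_eq {G : Type u} [Group G] {m : ℕ} (ρ : Representation ℂ G (Fin m → ℂ)) :
    ρ.character 1 = m := by
  simp

theorem charDegree_character {G : Type u} [Group G] {m : ℕ} (ρ : Representation ℂ G (Fin m → ℂ)) :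
    Cfsg.charDegree ρ.character = m := by
  unfold Cfsg.charDegree
  rw [char_one_eq, Complex.natCast_re, Nat.floor_natCast]

/-- A faithful character comes from an injective isometric representation of its degree. -/
theorem exists_faithful_unitary {G : Type u} [Group G] [Finite G] {χ : G → ℂ}
    (hχ : Cfsg.IsCharacter G χ) (hfaith : ∀ g : G, χ g = χ 1 → g = 1) :
    ∃ (m : Type u) (_ : Fintype m) (W : Submodule ℂ (EuclideanSpace ℂ m))
      (A : G →* (W →L[ℂ] W)), IsIso' (V := W) A ∧ Function.Injective A ∧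
        Module.finrank ℂ W = Cfsg.charDegree χ := by
  obtain ⟨n, ρ, rfl⟩ := hχ
  obtain ⟨m, hm, W, A, e, hA, hiso⟩ := exists_unitary_model ρ
  refine ⟨m, hm, W, A, hiso, ?_, ?_⟩
  · refine (injective_iff_map_eq_one A).mpr fun g hg => hfaith g ?_
    have : ρ g = 1 := LinearMap.ext fun v => e.injective (by rw [← hA, hg]; rfl)
    simp [Representation.character, this]
  · rw [← e.finrank_eq, charDegree_character]; simp

theorem jordan_frobenius {G : Type u} [Group G] [Finite G] (χ : G → ℂ)
    (hχ : Cfsg.IsCharacter G χ) (hfaith : ∀ g : G, χ g = χ 1 → g = 1) (n : ℕ)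
    (hn : Cfsg.charDegree χ = n) :
    ∃ A : Subgroup G, A.Normal ∧ (∀ x ∈ A, ∀ y ∈ A, x * y = y * x) ∧
      ∀ H : Subgroup G, (∀ x ∈ H, ∀ y ∈ H, x * y = y * x) →
        (A.subgroupOf H).index ≤ 12 ^ n := by
  obtain ⟨m, hm, W, A, hiso, hinj, hdim⟩ := exists_faithful_unitary hχ hfaith
  rw [← hn, ← hdim]
  exact exists_normal_abelian_bound (V := W) hiso hinj

end CfsgLib.LinGrp
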